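import Mathlib
import Groth.Prelude.Def_Pi1
import Groth.Agent.H7Lim.NormalizationNormal
import Groth.Agent.H7Lim.Birational
import Groth.Agent.H17.NagataNorm
import Groth.Agent.S0566

/-!
# The normalization of a modification in a finite extension

`Y → Spec A` is a modification, `A ⊆ B` finite, `K ⊆ L` the fraction fields.  `Z` is the normalization
of `Y` in `L`; it maps finitely to `Y` and is a normal modification of `Spec B`.  (helper5)
-/

set_option autoImplicit false
set_option linter.style.haveILetI false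

universe u

open CategoryTheory CategoryTheory.Limits AlgebraicGeometry TopologicalSpace Opposite

namespace Groth.Agent.H05EGA4.TraceSplit

/-- The data: a modification of `Spec A`, a finite extension `A ⊆ B`, fraction fields. -/
structure Ctx where
  A : CommRingCat.{u}
  B : CommRingCat.{u}
  K : CommRingCat.{u}
  L : CommRingCat.{u}
  [domA : IsDomain A]
  [noethA : IsNoetherianRing A]
  [domB : IsDomain B]
  [intB : IsIntegrallyClosed B]
  [fieldK : IsDomain K]
  isFieldK : IsField K
  isFieldL : IsField L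
  ab : A ⟶ B
  ak : A ⟶ K
  bl : B ⟶ L
  kl : K ⟶ L
  comm : ab ≫ bl = ak ≫ kl
  finAB : ab.hom.Finite
  fracK : letI := ak.hom.toAlgebra; IsFractionRing A K
  fracL : letI := bl.hom.toAlgebra; IsFractionRing B L
  finKL : kl.hom.Finite
  Y : Scheme.{u}
  [intY : IsIntegral Y]
  f : Y ⟶ Spec A
  [properF : IsProper f]
  U : (Spec A).Opens
  hU : (U : Set (Spec A)).Nonempty
  hiso : IsIso (f ∣_ U)
  normY : ∀ y : Y, IsIntegrallyClosed (Y.presheaf.stalk y)
  nagA : CAlg.IsNagata A

namespace Ctx

variable (C : Ctx.{u})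

attribute [instance] Ctx.domA Ctx.noethA Ctx.domB Ctx.intB Ctx.fieldK Ctx.intY Ctx.properF

theorem ak_injective : Function.Injective C.ak.hom := by
  letI := C.ak.hom.toAlgebra
  haveI := C.fracK
  exact IsFractionRing.injective C.A C.K

theorem bl_injective : Function.Injective C.bl.hom := by
  letI := C.bl.hom.toAlgebra
  haveI := C.fracL
  exact IsFractionRing.injective C.B C.L

instance : IsDomain C.L := C.isFieldL.isDomain

instance : Subsingleton (Spec C.K) := by
  letI := C.isFieldK.toField
  exact inferInstanceAs (Subsingleton (PrimeSpectrum C.K))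

instance : Subsingleton (Spec C.L) := by
  letI := C.isFieldL.toField
  exact inferInstanceAs (Subsingleton (PrimeSpectrum C.L))

instance : Nonempty (Spec C.K) := inferInstanceAs (Nonempty (PrimeSpectrum C.K))

instance : IsFinite (Spec.map C.kl) := (IsFinite.SpecMap_iff _).mpr C.finKL

theorem genericPoint_mem : genericPoint (Spec C.A) ∈ C.U :=
  ((genericPoint_spec _).mem_open_set_iff C.U.2).2 (by simpa using C.hU)

theorem range_ak : Set.range (Spec.map C.ak) = {genericPoint (Spec C.A)} := by
  have h : ∀ p : Spec C.K, Spec.map C.ak p = genericPoint (Spec C.A) := by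
    intro p
    letI := C.isFieldK.toField
    rw [AlgebraicGeometry.genericPoint_eq_bot_of_affine]
    refine PrimeSpectrum.ext ?_
    show p.asIdeal.comap C.ak.hom = ⊥
    rw [(Ideal.eq_bot_or_top p.asIdeal).resolve_right p.isPrime.ne_top]
    exact (RingHom.injective_iff_ker_eq_bot _).1 C.ak_injective
  exact Set.eq_singleton_iff_unique_mem.2 ⟨⟨Classical.arbitrary _, h _⟩, fun x ⟨p, hp⟩ => hp ▸ h p⟩

theorem range_le : Set.range (Spec.map C.ak) ⊆ Set.range C.U.ι := by
  rw [Scheme.Opens.range_ι, range_ak, Set.singleton_subset_iff]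
  exact C.genericPoint_mem

/-- `Spec K → Y` at the generic point. -/
noncomputable def g0 : Spec C.K ⟶ C.Y :=
  haveI := C.hiso
  IsOpenImmersion.lift C.U.ι (Spec.map C.ak) C.range_le ≫ inv (C.f ∣_ C.U) ≫ (C.f ⁻¹ᵁ C.U).ι

theorem g0_f : C.g0 ≫ C.f = Spec.map C.ak := by
  haveI := C.hiso
  rw [g0, Category.assoc, Category.assoc, ← morphismRestrict_ι, IsIso.inv_hom_id_assoc,
    IsOpenImmersion.lift_fac]

theorem g0_generic (p : Spec C.K) : C.g0 p = genericPoint C.Y := by
  haveI := C.hiso
  have hfp : C.f (C.g0 p) = genericPoint (Spec C.A) := by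
    rw [← Scheme.Hom.comp_apply, g0_f]
    have h := Set.mem_range_self (f := Spec.map C.ak) p
    rw [C.range_ak] at h
    exact h
  have hmem : C.g0 p ∈ C.f ⁻¹ᵁ C.U := show C.f (C.g0 p) ∈ C.U from hfp ▸ C.genericPoint_mem
  have hη : genericPoint C.Y ∈ C.f ⁻¹ᵁ C.U :=
    ((genericPoint_spec C.Y).mem_open_set_iff (C.f ⁻¹ᵁ C.U).2).2 ⟨_, trivial, hmem⟩
  have hfη : C.f (genericPoint C.Y) = genericPoint (Spec C.A) :=
    ((((genericPoint_spec C.Y).specializes trivial).map C.f.continuous).trans (specializes_of_eq hfp)).antisymm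
      ((genericPoint_spec (Spec C.A)).specializes trivial) |>.eq
  have := (C.f ∣_ C.U).homeomorph.injective
    (a₁ := ⟨_, hmem⟩) (a₂ := ⟨_, hη⟩) (C.U.ι.injective ?_)
  · exact congrArg Subtype.val this
  · refine (congr($(morphismRestrict_ι C.f C.U) ⟨_, hmem⟩)).trans ?_
    refine Eq.trans ?_ (congr($(morphismRestrict_ι C.f C.U) ⟨_, hη⟩)).symm
    exact hfp.trans hfη.symm

instance : IsDominant C.g0 := ⟨fun y =>
  closure_mono (s := ({genericPoint C.Y} : Set C.Y))
    (Set.singleton_subset_iff.2 (show genericPoint C.Y ∈ Set.range C.g0 from ⟨Classical.arbitrary _, C.g0_generic _⟩))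
    (by rw [(genericPoint_spec C.Y).def]; trivial)⟩
/-- `Spec L → Y`. -/
noncomputable def g : Spec C.L ⟶ C.Y := Spec.map C.kl ≫ C.g0

theorem g_f : C.g ≫ C.f = Spec.map C.bl ≫ Spec.map C.ab := by
  rw [g, Category.assoc, g0_f, ← Spec.map_comp, ← Spec.map_comp, C.comm]

theorem g_generic (p : Spec C.L) : C.g p = genericPoint C.Y := C.g0_generic _

instance : Nonempty (Spec C.L) := inferInstanceAs (Nonempty (PrimeSpectrum C.L))

instance : IsDominant C.g := ⟨fun y =>
  closure_mono (s := ({genericPoint C.Y} : Set C.Y))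
    (Set.singleton_subset_iff.2 (show genericPoint C.Y ∈ Set.range C.g from ⟨Classical.arbitrary _, C.g_generic _⟩))
    (by rw [(genericPoint_spec C.Y).def]; trivial)⟩
instance : QuasiCompact C.g := by
  refine ⟨fun V _ _ => ?_⟩
  exact (Set.toFinite _).isCompact

instance : QuasiSeparated C.g :=
  haveI : IsSeparated (C.g ≫ C.f) := inferInstance
  haveI : IsSeparated C.g := IsSeparated.of_comp C.g C.f
  inferInstance

theorem normal_L : ∀ x : Spec C.L, IsIntegrallyClosed ((Spec C.L).presheaf.stalk x) := fun x => by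
  letI := C.isFieldL.toField
  exact IsIntegrallyClosed.of_equiv (Spec.stalkIso C.L x).commRingCatIsoToRingEquiv.symm

/-- The normalization of `Y` in `L`. -/
noncomputable abbrev Z : Scheme.{u} := C.g.normalization

/-- `Z → Y`. -/
noncomputable abbrev π : C.Z ⟶ C.Y := C.g.fromNormalization

instance : IsIntegral C.Z := inferInstance

theorem normal_Z : ∀ z : C.Z, IsIntegrallyClosed (C.Z.presheaf.stalk z) :=
  fun z => H7Lim.isIntegrallyClosed_normalization_stalk C.normal_L C.g z

theorem isNagata_section {V : C.Y.Opens} (hV : IsAffineOpen V) : CAlg.IsNagata Γ(C.Y, V) := by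
  letI := ((Scheme.ΓSpecIso C.A).inv ≫ C.f.appLE ⊤ V le_top).hom.toAlgebra
  haveI : Algebra.FiniteType C.A Γ(C.Y, V) := by
    show ((Scheme.ΓSpecIso C.A).inv ≫ C.f.appLE ⊤ V le_top).hom.FiniteType
    rw [CommRingCat.hom_comp]
    exact (LocallyOfFiniteType.finiteType_appLE C.f (isAffineOpen_top _) hV le_top).comp
      (RingHom.FiniteType.of_surjective _ (ConcreteCategory.bijective_of_isIso (Scheme.ΓSpecIso C.A).inv).2)
  exact Groth.Agent.S0566.result C.A C.nagA Γ(C.Y, V)

end Ctx

end Groth.Agent.H05EGA4.TraceSplit
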