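import Groth.Agent.H05EGA4.TraceSplit.Main
import Groth.Agent.S4710

/-!
# Rational singularities descend along finite extensions of invertible degree

(helper5)
-/

set_option autoImplicit false
set_option linter.style.haveILetI false
set_option backward.isDefEq.respectTransparency false

universe u

open CategoryTheory CategoryTheory.Limits AlgebraicGeometry TopologicalSpace Opposite nonZeroDivisors

namespace Groth.Agent.H05EGA4.TraceSplit

theorem isRationalSing_of_ringEquiv {R R' : Type u} [CommRing R] [CommRing R'] (e : R ≃+* R')
    (h : Curv2.IsRationalSing R) : Curv2.IsRationalSing R' := by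
  intro X f hf hint hnorm ⟨U, hU, hiso⟩
  haveI := hf
  haveI := hiso
  let φ : Spec (CommRingCat.of R') ⟶ Spec (CommRingCat.of R) := Spec.map e.toCommRingCatIso.hom
  refine h X (f ≫ φ) inferInstance hint hnorm ⟨φ ''ᵁ U, ?_, ?_⟩
  · exact hU.image _
  · rw [morphismRestrict_comp]
    haveI : IsIso (f ∣_ φ ⁻¹ᵁ φ ''ᵁ U) := by rw [Scheme.Hom.preimage_image_eq]; infer_instance
    haveI : IsIso (φ ∣_ φ ''ᵁ U) := inferInstance
    infer_instance

variable (A B : Type u) [CommRing A] [CommRing B] [IsDomain A] [IsDomain B] [IsNoetherianRing A]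
  [IsIntegrallyClosed A] [IsIntegrallyClosed B] [Algebra A B] [Module.Finite A B]
  (K L : Type u) [Field K] [Field L] [Algebra A K] [IsFractionRing A K] [Algebra B L] [IsFractionRing B L]
  [Algebra K L] [Algebra A L] [IsScalarTower A K L] [IsScalarTower A B L]

/-- If the degree is a unit and all localizations of `B` at maximal ideals are rational, so are those of `A`. -/
theorem isRationalSing_of_isUnit (hN : CAlg.IsNagata A) (hinj : Function.Injective (algebraMap A B))
    (hdeg : IsUnit ((Module.finrank K L : ℕ) : A))
    (hB : ∀ (n : Ideal B) [n.IsMaximal], Curv2.IsRationalSing (Localization.AtPrime n))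
    (m : Ideal A) [m.IsMaximal] : Curv2.IsRationalSing (Localization.AtPrime m) := by
  intro X f hf hint hnorm hbir
  haveI := hf
  haveI := hint
  let Am := Localization.AtPrime m
  let M := Algebra.algebraMapSubmonoid B m.primeCompl
  let Bm := Localization M
  haveI : FaithfulSMul A B := (faithfulSMul_iff_algebraMap_injective A B).2 hinj
  have hM0 : M ≤ nonZeroDivisors B := by
    rintro _ ⟨a, ha, rfl⟩
    exact mem_nonZeroDivisors_of_ne_zero
      ((map_ne_zero_iff _ hinj).2 fun h0 => ha (h0 ▸ m.zero_mem))
  haveI : IsDomain Bm := IsLocalization.isDomain_localization hM0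
  haveI : IsIntegrallyClosed Am :=
    isIntegrallyClosed_of_isLocalization _ m.primeCompl m.primeCompl_le_nonZeroDivisors
  haveI : IsIntegrallyClosed Bm := isIntegrallyClosed_of_isLocalization _ M hM0
  letI : Algebra Am Bm := localizationAlgebra m.primeCompl B
  haveI : IsScalarTower A Am Bm := IsScalarTower.of_algebraMap_eq' <| by
    rw [IsScalarTower.algebraMap_eq A B Bm]
    exact (IsLocalization.map_comp _).symm
  haveI : Module.Finite Am Bm := Module.Finite.of_isLocalization A B m.primeCompl
  have hunit : ∀ s : m.primeCompl, IsUnit (algebraMap A K s) := fun s =>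
    ((map_ne_zero_iff (algebraMap A K) (IsFractionRing.injective A K)).2
      (show (s : A) ≠ 0 from fun h0 => s.2 (by rw [h0]; exact m.zero_mem))).isUnit
  letI : Algebra Am K := (IsLocalization.lift (M := m.primeCompl) hunit).toAlgebra
  haveI : IsScalarTower A Am K :=
    IsScalarTower.of_algebraMap_eq fun a => (IsLocalization.lift_eq hunit a).symm
  haveI : IsFractionRing Am K :=
    IsFractionRing.isFractionRing_of_isDomain_of_isLocalization m.primeCompl Am K
  have hunit' : ∀ s : M, IsUnit (algebraMap B L s) := fun s =>
    ((map_ne_zero_iff _ (IsFractionRing.injective B L)).2 (nonZeroDivisors.coe_ne_zero ⟨_, hM0 s.2⟩)).isUnit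
  letI : Algebra Bm L := (IsLocalization.lift (M := M) hunit').toAlgebra
  haveI : IsScalarTower B Bm L :=
    IsScalarTower.of_algebraMap_eq fun a => (IsLocalization.lift_eq hunit' a).symm
  haveI : IsFractionRing Bm L := IsFractionRing.isFractionRing_of_isDomain_of_isLocalization M Bm L
  letI : Algebra Am L := ((algebraMap K L).comp (algebraMap Am K)).toAlgebra
  haveI : IsScalarTower Am K L := IsScalarTower.of_algebraMap_eq' rfl
  haveI : IsScalarTower Am Bm L := IsScalarTower.of_algebraMap_eq' <|
    IsLocalization.ringHom_ext m.primeCompl (RingHom.ext fun a => by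
      show algebraMap K L (algebraMap Am K (algebraMap A Am a)) = algebraMap Bm L (algebraMap Am Bm (algebraMap A Am a))
      rw [← IsScalarTower.algebraMap_apply A Am K, ← IsScalarTower.algebraMap_apply A K L,
        ← IsScalarTower.algebraMap_apply A Am Bm, IsScalarTower.algebraMap_apply A B Bm,
        ← IsScalarTower.algebraMap_apply B Bm L, ← IsScalarTower.algebraMap_apply A B L])
  have hinjm : Function.Injective (algebraMap Am Bm) := by
    have h : Function.Injective (algebraMap Am L) := by
      rw [IsScalarTower.algebraMap_eq Am K L, RingHom.coe_comp]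
      exact (algebraMap K L).injective.comp (IsFractionRing.injective Am K)
    rw [IsScalarTower.algebraMap_eq Am Bm L, RingHom.coe_comp] at h
    exact h.of_comp
  have hBm : ∀ (n : Ideal Bm) [n.IsMaximal], Curv2.IsRationalSing (Localization.AtPrime n) := fun n _ => by
    let p := n.comap (algebraMap B Bm)
    haveI : p.IsPrime := Ideal.IsPrime.comap _
    haveI : Algebra.IsIntegral Am Bm := inferInstance
    haveI hmax : (n.comap (algebraMap Am Bm)).IsMaximal := Ideal.isMaximal_comap_of_isIntegral_of_isMaximal n
    have hnm : p.comap (algebraMap A B) = m := by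
      rw [Ideal.comap_comap, ← IsScalarTower.algebraMap_eq A B Bm, IsScalarTower.algebraMap_eq A Am Bm,
        ← Ideal.comap_comap, IsLocalRing.eq_maximalIdeal hmax]
      exact IsLocalization.AtPrime.under_maximalIdeal Am m
    haveI : (p.comap (algebraMap A B)).IsMaximal := hnm ▸ inferInstance
    haveI : Algebra.IsIntegral A B := inferInstance
    haveI : p.IsMaximal := Ideal.isMaximal_of_isIntegral_of_isMaximal_comap (R := A) p ‹_›
    haveI : IsLocalization.AtPrime (Localization.AtPrime n) p :=
      IsLocalization.isLocalization_isLocalization_atPrime_isLocalization M _ n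
    exact isRationalSing_of_ringEquiv
      (IsLocalization.algEquiv p.primeCompl (Localization.AtPrime p) (Localization.AtPrime n)).toRingEquiv (hB p)
  have hNm : CAlg.IsNagata Am := Groth.Agent.S4710.result A hN m.primeCompl
  letI : X.Over (Spec (CommRingCat.of Am)) := ⟨f⟩
  haveI : IsProper (X ↘ Spec (CommRingCat.of Am)) := hf
  refine subsingleton_of_forall_eq 0 fun x => ?_
  have h := finrank_smul_HH_eq_zero Am Bm K L hNm hinjm hBm X (fun y => (hnorm y).2) hbir x
  have hu : IsUnit ((Module.finrank K L : ℕ) : Am) := by
    rw [← map_natCast (algebraMap A Am)]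
    exact hdeg.map _
  exact (hu.smul_eq_zero).1 h

end Groth.Agent.H05EGA4.TraceSplit
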