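import Groth.Agent.H05EGA4.TraceSplit.Vanish

/-!
# Trace splitting: a finite extension with rational singularities makes `[L : K]` kill `H¹(Y, O_Y)`

(helper5)
-/

set_option autoImplicit false
set_option linter.style.haveILetI false
set_option backward.isDefEq.respectTransparency false

universe u

open CategoryTheory CategoryTheory.Limits AlgebraicGeometry TopologicalSpace Opposite nonZeroDivisors

namespace Groth.Agent.H05EGA4.TraceSplit

variable (A B : Type u) [CommRing A] [CommRing B] [IsDomain A] [IsDomain B] [IsNoetherianRing A]
  [IsIntegrallyClosed A] [IsIntegrallyClosed B] [Algebra A B] [Module.Finite A B]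
  (K L : Type u) [Field K] [Field L] [Algebra A K] [IsFractionRing A K] [Algebra B L] [IsFractionRing B L]
  [Algebra K L] [Algebra A L] [IsScalarTower A K L] [IsScalarTower A B L]

include A B in
theorem finiteDimensional (hinj : Function.Injective (algebraMap A B)) : FiniteDimensional K L := by
  haveI : FaithfulSMul A B := (faithfulSMul_iff_algebraMap_injective A B).2 hinj
  haveI : IsIntegralClosure B A L := IsIntegralClosure.of_isIntegrallyClosed _ _ _
  haveI : Algebra.IsAlgebraic K L := isAlgebraic_of_isFractionRing A B ..
  haveI : IsLocalization (Algebra.algebraMapSubmonoid B A⁰) L := IsIntegralClosure.isLocalization _ K _ _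
  exact .of_isLocalization A B A⁰

/-- Modifications of `Spec A` have `H¹(O)` killed by the degree of a finite extension all of whose
localizations at maximal ideals are rational. -/
theorem finrank_smul_HH_eq_zero (hN : CAlg.IsNagata A) (hinj : Function.Injective (algebraMap A B))
    (hB : ∀ (n : Ideal B) [n.IsMaximal], Curv2.IsRationalSing (Localization.AtPrime n))
    (Y : Scheme.{u}) [Y.Over (Spec (CommRingCat.of A))] [IsProper (Y ↘ Spec (CommRingCat.of A))]
    [IsIntegral Y] (hnorm : ∀ y : Y, IsIntegrallyClosed (Y.presheaf.stalk y))
    (hbir : ∃ U : (Spec (CommRingCat.of A)).Opens, (U : Set ↥(Spec (CommRingCat.of A))).Nonempty ∧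
      IsIso ((Y ↘ Spec (CommRingCat.of A)) ∣_ U))
    (x : Coh.HH Y (Coh.structureModule Y) 1) : (Module.finrank K L : A) • x = 0 := by
  obtain ⟨U, hU, hiso⟩ := hbir
  haveI := finiteDimensional A B K L hinj
  let C : Ctx.{u} :=
    { A := CommRingCat.of A
      B := CommRingCat.of B
      K := CommRingCat.of K
      L := CommRingCat.of L
      isFieldK := Field.toIsField K
      isFieldL := Field.toIsField L
      ab := CommRingCat.ofHom (algebraMap A B)
      ak := CommRingCat.ofHom (algebraMap A K)
      bl := CommRingCat.ofHom (algebraMap B L)
      kl := CommRingCat.ofHom (algebraMap K L)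
      comm := by
        ext a
        exact (IsScalarTower.algebraMap_apply A B L a).symm.trans (IsScalarTower.algebraMap_apply A K L a)
      finAB := RingHom.finite_algebraMap.2 inferInstance
      fracK := by
        show @IsFractionRing A _ K _ (algebraMap A K).toAlgebra
        rw [show (algebraMap A K).toAlgebra = ‹Algebra A K› from Algebra.algebra_ext _ _ fun _ => rfl]
        infer_instance
      fracL := by
        show @IsFractionRing B _ L _ (algebraMap B L).toAlgebra
        rw [show (algebraMap B L).toAlgebra = ‹Algebra B L› from Algebra.algebra_ext _ _ fun _ => rfl]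
        infer_instance
      finKL := RingHom.finite_algebraMap.2 inferInstance
      Y := Y
      f := Y ↘ Spec (CommRingCat.of A)
      U := U
      hU := hU
      hiso := hiso
      normY := hnorm
      nagA := hN }
  have hdeg : C.deg = Module.finrank K L := by
    have h : (algebraMap K L).toAlgebra = ‹Algebra K L› := Algebra.algebra_ext _ _ fun _ => rfl
    show @Module.finrank K L _ _ (algebraMap K L).toAlgebra.toModule = _
    rw [h]
  have h := C.deg_smul_eq_zero hB x
  refine Eq.trans ?_ h
  show Coh.toGlobal (Y ↘ Spec (CommRingCat.of A)) (Module.finrank K L : A) • x = _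
  rw [map_natCast, hdeg]

/-- Two-dimensional input: localizations at maximal ideals of height `≤ 1` are automatically rational. -/
theorem rationalSing_all [IsNoetherianRing B] (hB2 : ringKrullDim B ≤ 2)
    (hB : ∀ (n : Ideal B) [n.IsMaximal], ringKrullDim (Localization.AtPrime n) = 2 →
      Curv2.IsRationalSing (Localization.AtPrime n)) (n : Ideal B) [n.IsMaximal] :
    Curv2.IsRationalSing (Localization.AtPrime n) := by
  haveI : IsIntegrallyClosed (Localization.AtPrime n) :=
    isIntegrallyClosed_of_isLocalization _ n.primeCompl n.primeCompl_le_nonZeroDivisors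
  by_cases h2 : ringKrullDim (Localization.AtPrime n) = 2
  · exact hB n h2
  refine isRationalSing_of_dim_le_one _ ?_
  have hle : ringKrullDim (Localization.AtPrime n) ≤ 2 := by
    rw [IsLocalization.AtPrime.ringKrullDim_eq_height n (Localization.AtPrime n)]
    exact Ideal.height_le_ringKrullDim_of_ne_top (Ideal.IsPrime.ne_top inferInstance) |>.trans hB2
  rw [IsLocalization.AtPrime.ringKrullDim_eq_height n (Localization.AtPrime n)] at hle h2 ⊢
  have hle' : n.height ≤ 2 := WithBot.coe_le_coe.1 hle
  have h2' : n.height ≠ 2 := fun h => h2 (by rw [h]; rfl)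
  have h1 : n.height ≤ 1 := by
    have := lt_of_le_of_ne hle' h2'
    exact Order.le_of_lt_succ (by simpa [Order.succ_eq_add_one, one_add_one_eq_two] using this)
  exact WithBot.coe_le_coe.2 h1

end Groth.Agent.H05EGA4.TraceSplit
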