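import Groth.Agent.H05EGA4.TraceSplit.Sections

/-!
# `Z` is a finite cover of `Y` and a normal modification of `Spec B`

(helper5)
-/

set_option autoImplicit false
set_option linter.style.haveILetI false
set_option backward.isDefEq.respectTransparency false

universe u

open CategoryTheory CategoryTheory.Limits AlgebraicGeometry TopologicalSpace Opposite

namespace Groth.Agent.H05EGA4.TraceSplit.Ctx

variable (C : Ctx.{u})

instance isFinite_π : IsFinite C.π := by
  rw [isFinite_iff]
  refine ⟨inferInstance, fun V hV => ?_⟩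
  letI := (C.g.app V).hom.toAlgebra
  rw [C.g.fromNormalization_app hV, CommRingCat.hom_comp]
  refine RingHom.Finite.comp (RingHom.Finite.of_surjective _
    (ConcreteCategory.bijective_of_isIso (C.g.normalizationObjIso hV).inv).2) ?_
  show (algebraMap Γ(C.Y, V) (integralClosure Γ(C.Y, V) Γ(Spec C.L, C.g ⁻¹ᵁ V))).Finite
  rw [RingHom.finite_algebraMap]
  by_cases hne : (V : Set C.Y).Nonempty
  · have hW : C.g ⁻¹ᵁ V = ⊤ := top_le_iff.1 (C.top_le_g V hne)
    let η : Γ(Spec C.L, C.g ⁻¹ᵁ V) ⟶ C.L :=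
      (Spec C.L).presheaf.map (eqToHom hW.symm).op ≫ (Scheme.ΓSpecIso C.L).hom
    have hη : Function.Bijective η.hom := ConcreteCategory.bijective_of_isIso η
    have happ : C.g.app V ≫ η = C.kY V hne ≫ C.kl := by
      rw [← app_lZ, lZ, ← app_appLE C.g.toNormalization_fromNormalization V (C.g ⁻¹ᵁ V)
        (H7Lim.fromNormalization_preimage_preimage C.g V).le le_rfl |>.trans
          (Scheme.Hom.app_eq_appLE C.g).symm]
      simp only [η, Category.assoc, Scheme.Hom.appLE_map_assoc]
    letI := C.isFieldL.toField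
    refine Groth.Agent.H17.NagataNorm.finite_integralClosure_of_jointly_injective (ι := PUnit.{u + 1})
      Γ(C.Y, V) Γ(Spec C.L, C.g ⁻¹ᵁ V) (C.isNagata_section hV) (fun _ => (C.L : Type u)) (fun _ => η.hom)
      (fun _ => ?_) (fun a ha => hη.1 ((ha PUnit.unit).trans (map_zero _).symm))
    show (C.g.app V ≫ η).hom.EssFiniteType
    rw [happ, CommRingCat.hom_comp]
    refine RingHom.EssFiniteType.comp ?_ (RingHom.FiniteType.essFiniteType C.finKL.finiteType)
    letI := (C.kY V hne).hom.toAlgebra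
    haveI := C.isFractionRing_kY V hne
    exact RingHom.essFiniteType_algebraMap.mpr
      (Algebra.EssFiniteType.of_isLocalization C.K (nonZeroDivisors Γ(C.Y, V)))
  · haveI : Subsingleton Γ(Spec C.L, C.g ⁻¹ᵁ V) := by
      rw [show C.g ⁻¹ᵁ V = ⊥ from Opens.ext (Set.eq_empty_iff_forall_notMem.2 fun p hp => hne ⟨_, hp⟩)]
      infer_instance
    infer_instance

theorem comm_T : C.g ≫ C.f = Spec.map C.bl ≫ Spec.map C.ab := C.g_f

instance : IsFinite (Spec.map C.ab) := (IsFinite.SpecMap_iff _).mpr C.finAB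

/-- `Z → Y ×_{Spec A} Spec B`. -/
noncomputable def desc : C.Z ⟶ pullback C.f (Spec.map C.ab) :=
  C.g.normalizationDesc (pullback.lift C.g (Spec.map C.bl) C.g_f) (pullback.fst _ _)
    (pullback.lift_fst _ _ _).symm

theorem desc_fst : C.desc ≫ pullback.fst C.f (Spec.map C.ab) = C.π :=
  C.g.normalizationDesc_comp _ _ _

instance : IsFinite C.desc := by
  haveI : IsFinite (C.desc ≫ pullback.fst C.f (Spec.map C.ab)) := by rw [desc_fst]; infer_instance
  exact MorphismProperty.of_postcomp (W := @IsFinite) (W' := @IsSeparated) C.desc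
    (pullback.fst C.f (Spec.map C.ab)) inferInstance ‹_›

/-- `Z → Spec B`. -/
noncomputable def q : C.Z ⟶ Spec C.B := C.desc ≫ pullback.snd _ _

theorem q_comp : C.q ≫ Spec.map C.ab = C.π ≫ C.f := by
  rw [q, Category.assoc, ← pullback.condition, ← Category.assoc, desc_fst]

theorem toNormalization_q : C.g.toNormalization ≫ C.q = Spec.map C.bl := by
  rw [q, desc, Scheme.Hom.toNormalization_normalizationDesc_assoc, pullback.lift_snd]

instance : IsProper C.q := by
  haveI : IsProper (pullback.snd C.f (Spec.map C.ab)) :=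
    MorphismProperty.pullback_snd _ _ inferInstance
  rw [q]; infer_instance

theorem ab_injective : Function.Injective C.ab.hom := by
  intro x y h
  have h1 : C.kl.hom (C.ak.hom x) = C.kl.hom (C.ak.hom y) := by
    rw [← CommRingCat.comp_apply, ← CommRingCat.comp_apply, ← C.comm, CommRingCat.comp_apply,
      CommRingCat.comp_apply]
    exact congrArg _ h
  letI := C.isFieldK.toField
  haveI : Nontrivial C.L := inferInstance
  exact C.ak_injective (C.kl.hom.injective h1)

theorem genericPoint_B : Spec.map C.bl (Classical.arbitrary _) = genericPoint (Spec C.B) := by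
  letI := C.isFieldL.toField
  rw [AlgebraicGeometry.genericPoint_eq_bot_of_affine]
  refine PrimeSpectrum.ext ?_
  show (Classical.arbitrary (Spec C.L)).asIdeal.comap C.bl.hom = ⊥
  rw [(Ideal.eq_bot_or_top (Classical.arbitrary (Spec C.L)).asIdeal).resolve_right
    (Classical.arbitrary (Spec C.L)).isPrime.ne_top]
  exact (RingHom.injective_iff_ker_eq_bot _).1 C.bl_injective

theorem q_generic : C.q (genericPoint C.Z) = genericPoint (Spec C.B) := by
  haveI : IsIntegral (Spec C.L) := inferInstance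
  rw [← H7Lim.genericPoint_toNormalization C.g, ← Scheme.Hom.comp_apply, toNormalization_q]
  rw [Subsingleton.elim (genericPoint (Spec C.L)) (Classical.arbitrary _), genericPoint_B]

theorem stalkMap_bl_surjective (x : Spec C.L) : Function.Surjective ((Spec.map C.bl).stalkMap x) := by
  letI := C.isFieldL.toField
  intro z
  -- every element of the stalk of `Spec L` comes from `L`
  obtain ⟨l, rfl⟩ : ∃ l : C.L, (Spec C.L).presheaf.germ ⊤ x trivial ((Scheme.ΓSpecIso C.L).inv l) = z := by
    obtain ⟨⟨l, s⟩, hl⟩ := IsLocalization.surj x.asIdeal.primeCompl ((Spec.stalkIso C.L x).hom z)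
    have hs : (s : C.L) ≠ 0 := fun h => s.2 (h ▸ x.asIdeal.zero_mem)
    refine ⟨l / (s : C.L), (ConcreteCategory.bijective_of_isIso (Spec.stalkIso C.L x).hom).1 ?_⟩
    rw [← CommRingCat.comp_apply, ← CommRingCat.comp_apply, Spec.germ_stalkMapIso_hom]
    refine ((hs.isUnit.map (algebraMap C.L (Localization.AtPrime x.asIdeal))).mul_left_inj).1 ?_
    show algebraMap C.L (Localization.AtPrime x.asIdeal)
      ((Scheme.ΓSpecIso C.L).hom ((Scheme.ΓSpecIso C.L).inv (l / (s : C.L)))) * _ = _
    rw [Iso.inv_hom_id_apply, ← map_mul, div_mul_cancel₀ _ hs]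
    exact hl.symm
  -- and is a fraction of elements of `B`
  letI := C.bl.hom.toAlgebra
  haveI := C.fracL
  obtain ⟨⟨b, b'⟩, hb⟩ := IsLocalization.surj (nonZeroDivisors C.B) l
  have hnat : ∀ c : C.B, (Spec.map C.bl).stalkMap x
      ((Spec C.B).presheaf.germ ⊤ (Spec.map C.bl x) trivial ((Scheme.ΓSpecIso C.B).inv c)) =
      (Spec C.L).presheaf.germ ⊤ x trivial ((Scheme.ΓSpecIso C.L).inv (C.bl c)) := fun c => by
    rw [← CommRingCat.comp_apply, Scheme.Hom.germ_stalkMap, CommRingCat.comp_apply]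
    refine congrArg ((Spec C.L).presheaf.germ ⊤ x trivial) ?_
    rw [← CommRingCat.comp_apply, ← CommRingCat.comp_apply, Scheme.ΓSpecIso_inv_naturality]
    rfl
  have hu : IsUnit ((Spec C.B).presheaf.germ ⊤ (Spec.map C.bl x) trivial
      ((Scheme.ΓSpecIso C.B).inv (b' : C.B))) := by
    refine isUnit_of_map_unit ((Spec.map C.bl).stalkMap x).hom _ ?_
    rw [hnat]
    exact ((Ne.isUnit ((map_ne_zero_iff _ C.bl_injective).2 (nonZeroDivisors.coe_ne_zero b'))).map _).map _
  obtain ⟨v, hv⟩ := hu.exists_right_inv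
  refine ⟨(Spec C.B).presheaf.germ ⊤ (Spec.map C.bl x) trivial ((Scheme.ΓSpecIso C.B).inv b) * v, ?_⟩
  rw [map_mul, hnat, show C.bl b = l * C.bl (b' : C.B) from hb.symm, map_mul, map_mul, ← hnat (b' : C.B),
    mul_assoc, ← map_mul, hv, map_one, mul_one]

/-- `q` is an isomorphism over the preimage of `U`. -/
theorem isIso_q : IsIso (C.q ∣_ (Spec.map C.ab ⁻¹ᵁ C.U)) := by
  let W := Spec.map C.ab ⁻¹ᵁ C.U
  haveI hs : IsIso (pullback.snd C.f (Spec.map C.ab) ∣_ W) := by
    haveI := C.hiso
    have hW : (pullback.snd C.f (Spec.map C.ab) ⁻¹ᵁ W) ≤ pullback.fst C.f (Spec.map C.ab) ⁻¹ᵁ (C.f ⁻¹ᵁ C.U) := by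
      rw [← Scheme.Hom.comp_preimage, ← Scheme.Hom.comp_preimage, pullback.condition]
    have hsq : IsPullback (pullback.snd C.f (Spec.map C.ab) ∣_ W)
        ((pullback.fst C.f (Spec.map C.ab)).resLE (C.f ⁻¹ᵁ C.U) _ hW) (Spec.map C.ab ∣_ C.U) (C.f ∣_ C.U) := by
      refine .of_bot ?_ ?_ (isPullback_morphismRestrict C.f C.U)
      · simpa using (isPullback_morphismRestrict (pullback.snd C.f (Spec.map C.ab)) W).paste_vert
          (IsPullback.of_hasPullback C.f (Spec.map C.ab)).flip
      · simp [← cancel_mono C.U.ι, W, pullback.condition]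
    exact MorphismProperty.of_isPullback (P := MorphismProperty.isomorphisms Scheme)
      hsq.flip ‹IsIso (C.f ∣_ C.U)›
  haveI : IsFinite (C.q ∣_ W) := by
    have h : C.q ∣_ W = (C.desc ∣_ (pullback.snd C.f (Spec.map C.ab) ⁻¹ᵁ W)) ≫
        (pullback.snd C.f (Spec.map C.ab) ∣_ W) := morphismRestrict_comp _ _ _
    rw [h]
    haveI := IsZariskiLocalAtTarget.restrict (P := @IsFinite) (f := C.desc) inferInstance
      (pullback.snd C.f (Spec.map C.ab) ⁻¹ᵁ W)
    infer_instance
  haveI : IsIntegral (Spec C.B) := inferInstance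
  have hBW : genericPoint (Spec C.B) ∈ W := by
    show Spec.map C.ab (genericPoint (Spec C.B)) ∈ C.U
    convert C.genericPoint_mem
    rw [AlgebraicGeometry.genericPoint_eq_bot_of_affine, AlgebraicGeometry.genericPoint_eq_bot_of_affine]
    exact PrimeSpectrum.ext ((RingHom.injective_iff_ker_eq_bot _).1 C.ab_injective)
  have hηW : genericPoint C.Z ∈ C.q ⁻¹ᵁ W := show C.q _ ∈ W from C.q_generic.symm ▸ hBW
  haveI : Nonempty ↥W := ⟨⟨_, hBW⟩⟩
  haveI : Nonempty ↥(C.q ⁻¹ᵁ W) := ⟨⟨_, hηW⟩⟩
  haveI : Nonempty (W : Scheme.{u}) := ⟨⟨_, hBW⟩⟩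
  haveI : Nonempty (C.q ⁻¹ᵁ W : Scheme.{u}) := ⟨⟨_, hηW⟩⟩
  haveI : IsIntegral (W : Scheme.{u}) := isIntegral_of_isOpenImmersion W.ι
  haveI : IsIntegral (C.q ⁻¹ᵁ W : Scheme.{u}) := isIntegral_of_isOpenImmersion (C.q ⁻¹ᵁ W).ι
  have hN : ∀ y : (W : Scheme.{u}), IsIntegrallyClosed ((W : Scheme.{u}).presheaf.stalk y) := fun y => by
    haveI : IsIntegrallyClosed ((Spec C.B).presheaf.stalk y.1) := by
      haveI : IsIntegrallyClosed (Localization.AtPrime y.1.asIdeal) :=
        isIntegrallyClosed_of_isLocalization _ y.1.asIdeal.primeCompl (Ideal.primeCompl_le_nonZeroDivisors _)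
      exact IsIntegrallyClosed.of_equiv (Spec.stalkIso C.B y.1).commRingCatIsoToRingEquiv.symm
    exact IsIntegrallyClosed.of_equiv (W.stalkIso y).commRingCatIsoToRingEquiv.symm
  have hgenW : (C.q ∣_ W) (genericPoint (C.q ⁻¹ᵁ W : Scheme.{u})) = genericPoint (W : Scheme.{u}) := by
    apply W.ι.injective
    rw [genericPoint_eq_of_isOpenImmersion W.ι, ← C.q_generic, ← genericPoint_eq_of_isOpenImmersion (C.q ⁻¹ᵁ W).ι]
    exact congr($(morphismRestrict_ι C.q W) _)
  haveI hsm : IsIso ((C.q ∣_ W).stalkMap (genericPoint (C.q ⁻¹ᵁ W : Scheme.{u}))) := by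
    refine ((MorphismProperty.isomorphisms CommRingCat).arrow_mk_iso_iff
      (morphismRestrictStalkMap C.q W _)).2 ?_
    show IsIso (C.q.stalkMap _)
    rw [show (genericPoint (C.q ⁻¹ᵁ W : Scheme.{u})).1 = C.g.toNormalization (genericPoint (Spec C.L)) from
      (genericPoint_eq_of_isOpenImmersion (C.q ⁻¹ᵁ W).ι).trans (H7Lim.genericPoint_toNormalization C.g).symm]
    have hinjL : Function.Injective (C.g.toNormalization.stalkMap (genericPoint (Spec C.L))).hom := by
      have hF : IsField (C.Z.presheaf.stalk (C.g.toNormalization (genericPoint (Spec C.L)))) :=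
        (H7Lim.genericPoint_toNormalization C.g).symm ▸ Field.toIsField C.Z.functionField
      letI := hF.toField
      exact RingHom.injective _
    have hcomp : C.q.stalkMap (C.g.toNormalization (genericPoint (Spec C.L))) ≫
        C.g.toNormalization.stalkMap (genericPoint (Spec C.L)) =
        (C.g.toNormalization ≫ C.q).stalkMap (genericPoint (Spec C.L)) :=
      (Scheme.Hom.stalkMap_comp _ _ _).symm
    have hsurj : Function.Surjective ((C.g.toNormalization ≫ C.q).stalkMap (genericPoint (Spec C.L))) := by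
      have h := C.stalkMap_bl_surjective (genericPoint (Spec C.L))
      intro z
      obtain ⟨w, hw⟩ := h z
      refine ⟨(Spec C.B).presheaf.stalkCongr (Inseparable.of_eq
        (congr($(C.toNormalization_q) (genericPoint (Spec C.L))))).symm |>.hom w, ?_⟩
      rw [← hw, Scheme.Hom.stalkMap_congr_hom _ _ C.toNormalization_q]
      simp
    rw [ConcreteCategory.isIso_iff_bijective]
    refine ⟨?_, fun z => ?_⟩
    · have hF : IsField ((Spec C.B).presheaf.stalk (C.q (C.g.toNormalization (genericPoint (Spec C.L))))) :=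
        (H7Lim.genericPoint_toNormalization C.g).symm ▸ C.q_generic.symm ▸ Field.toIsField (Spec C.B).functionField
      letI := hF.toField
      exact RingHom.injective _
    · obtain ⟨w, hw⟩ := hsurj (C.g.toNormalization.stalkMap _ z)
      refine ⟨w, hinjL ?_⟩
      rw [← hw, ← hcomp]
      rfl
  exact H7Lim.isIso_of_isIntegralHom_birational hN (C.q ∣_ W) hgenW

theorem modification_q : ∃ V : (Spec C.B).Opens, (V : Set (Spec C.B)).Nonempty ∧ IsIso (C.q ∣_ V) := by
  refine ⟨_, ⟨genericPoint (Spec C.B), ?_⟩, C.isIso_q⟩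
  show Spec.map C.ab (genericPoint (Spec C.B)) ∈ C.U
  convert C.genericPoint_mem
  rw [AlgebraicGeometry.genericPoint_eq_bot_of_affine, AlgebraicGeometry.genericPoint_eq_bot_of_affine]
  exact PrimeSpectrum.ext ((RingHom.injective_iff_ker_eq_bot _).1 C.ab_injective)

theorem isNormalScheme_Z : Pi1.IsNormalScheme C.Z := fun z => ⟨inferInstance, C.normal_Z z⟩

end Groth.Agent.H05EGA4.TraceSplit.Ctx
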