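import Groth.Agent.H05EGA4.TraceSplit.Cover

/-!
# Sections of `Y` and of its normalization as elements of the fields

(helper5)
-/

set_option autoImplicit false
set_option linter.style.haveILetI false
set_option backward.isDefEq.respectTransparency false

universe u

open CategoryTheory CategoryTheory.Limits AlgebraicGeometry TopologicalSpace Opposite

namespace Groth.Agent.H05EGA4.TraceSplit.Ctx

variable (C : Ctx.{u})

theorem app_appLE {X Y S : Scheme.{u}} {a : X ⟶ Y} {b : Y ⟶ S} {c : X ⟶ S} (h : a ≫ b = c) (U : S.Opens)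
    (W : X.Opens) (e1 : W ≤ a ⁻¹ᵁ (b ⁻¹ᵁ U)) (e2 : W ≤ c ⁻¹ᵁ U) :
    b.app U ≫ a.appLE (b ⁻¹ᵁ U) W e1 = c.appLE U W e2 := by
  subst h
  rw [Scheme.Hom.app_eq_appLE, Scheme.Hom.appLE_comp_appLE]

theorem appLE_appTop {X Y S : Scheme.{u}} {a : X ⟶ Y} {b : Y ⟶ S} {c : X ⟶ S} (h : a ≫ b = c) (U : S.Opens)
    (e1 : (⊤ : Y.Opens) ≤ b ⁻¹ᵁ U) (e2 : (⊤ : X.Opens) ≤ c ⁻¹ᵁ U) :
    b.appLE U ⊤ e1 ≫ a.appTop = c.appLE U ⊤ e2 := by
  subst h
  rw [show a.appTop = a.appLE ⊤ ⊤ le_top from (by rw [Scheme.Hom.appLE]; simp)]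
  exact Scheme.Hom.appLE_comp_appLE _ _ _ _ _ _ _

theorem top_le_g0 (V : C.Y.Opens) (hV : (V : Set C.Y).Nonempty) : (⊤ : (Spec C.K).Opens) ≤ C.g0 ⁻¹ᵁ V :=
  fun p _ => show C.g0 p ∈ V from C.g0_generic p ▸ ((genericPoint_spec C.Y).mem_open_set_iff V.2).2
    (by simpa using hV)

theorem top_le_g (V : C.Y.Opens) (hV : (V : Set C.Y).Nonempty) : (⊤ : (Spec C.L).Opens) ≤ C.g ⁻¹ᵁ V :=
  fun _ _ => C.top_le_g0 V hV trivial

theorem top_le_toNorm (V : C.Y.Opens) (hV : (V : Set C.Y).Nonempty) :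
    (⊤ : (Spec C.L).Opens) ≤ C.g.toNormalization ⁻¹ᵁ (C.π ⁻¹ᵁ V) := fun p _ => by
  show C.π (C.g.toNormalization p) ∈ V
  rw [← Scheme.Hom.comp_apply, Scheme.Hom.toNormalization_fromNormalization]
  exact C.top_le_g V hV trivial

/-- A section of `Y` as an element of `K`. -/
noncomputable def kY (V : C.Y.Opens) (hV : (V : Set C.Y).Nonempty) : Γ(C.Y, V) ⟶ C.K :=
  C.g0.appLE V ⊤ (C.top_le_g0 V hV) ≫ (Scheme.ΓSpecIso C.K).hom

/-- A section of `Z` as an element of `L`. -/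
noncomputable def lZ (V : C.Y.Opens) (hV : (V : Set C.Y).Nonempty) : Γ(C.Z, C.π ⁻¹ᵁ V) ⟶ C.L :=
  C.g.toNormalization.appLE (C.π ⁻¹ᵁ V) ⊤ (C.top_le_toNorm V hV) ≫ (Scheme.ΓSpecIso C.L).hom

theorem kY_res {V W : C.Y.Opens} (h : W ≤ V) (hW : (W : Set C.Y).Nonempty) :
    C.Y.presheaf.map (homOfLE h).op ≫ C.kY W hW = C.kY V (hW.mono h) := by
  rw [kY, kY, Scheme.Hom.map_appLE_assoc]

theorem lZ_res {V W : C.Y.Opens} (h : W ≤ V) (hW : (W : Set C.Y).Nonempty) :
    C.Z.presheaf.map (homOfLE (C.π.preimage_mono h)).op ≫ C.lZ W hW = C.lZ V (hW.mono h) := by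
  rw [lZ, lZ, Scheme.Hom.map_appLE_assoc]

theorem app_lZ (V : C.Y.Opens) (hV : (V : Set C.Y).Nonempty) :
    C.π.app V ≫ C.lZ V hV = C.kY V hV ≫ C.kl := by
  rw [lZ, kY, Category.assoc, ← Scheme.ΓSpecIso_naturality C.kl, ← Category.assoc, ← Category.assoc,
    app_appLE C.g.toNormalization_fromNormalization V ⊤ (C.top_le_toNorm V hV) (C.top_le_g V hV),
    appLE_appTop (a := Spec.map C.kl) (b := C.g0) (c := C.g) rfl V (C.top_le_g0 V hV) (C.top_le_g V hV)]

theorem injective_appLE {X X' : Scheme.{u}} [IsIntegral X'] [IsIntegral X] (h : X ⟶ X') [IsDominant h]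
    (V : X'.Opens) (W : X.Opens) [Nonempty W] (e : W ≤ h ⁻¹ᵁ V) : Function.Injective (h.appLE V W e) := by
  have hη : genericPoint X ∈ W := ((genericPoint_spec X).mem_open_set_iff W.2).2 (by
    obtain ⟨⟨w, hw⟩⟩ := ‹Nonempty W›; exact ⟨w, trivial, hw⟩)
  have hgen : h (genericPoint X) = genericPoint X' := H7Lim.genericPoint_of_isDominant h
  intro a b hab
  have hmem : h (genericPoint X) ∈ V := e hη
  refine germ_injective_of_isIntegral X' (h (genericPoint X)) hmem ?_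
  have h1 : h.stalkMap (genericPoint X) (X'.presheaf.germ V _ hmem a) =
      h.stalkMap (genericPoint X) (X'.presheaf.germ V _ hmem b) := by
    have := congrArg (X.presheaf.germ W _ hη) hab
    rw [← CommRingCat.comp_apply, ← CommRingCat.comp_apply, Scheme.Hom.appLE, Category.assoc,
      TopCat.Presheaf.germ_res, ← Scheme.Hom.germ_stalkMap h V (genericPoint X) hmem] at this
    exact this
  have hF : IsField (X'.presheaf.stalk (h (genericPoint X))) := hgen ▸ Field.toIsField X'.functionField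
  letI := hF.toField
  exact (h.stalkMap (genericPoint X)).hom.injective h1

instance : IsIntegral (Spec C.K) := inferInstance

theorem kY_injective (V : C.Y.Opens) (hV : (V : Set C.Y).Nonempty) : Function.Injective (C.kY V hV).hom := by
  haveI : Nonempty (⊤ : (Spec C.K).Opens) := ⟨⟨Classical.arbitrary _, trivial⟩⟩
  exact (ConcreteCategory.bijective_of_isIso (Scheme.ΓSpecIso C.K).hom).1.comp (injective_appLE C.g0 V ⊤ _)

theorem lZ_injective (V : C.Y.Opens) (hV : (V : Set C.Y).Nonempty) : Function.Injective (C.lZ V hV).hom := by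
  haveI : Nonempty (⊤ : (Spec C.L).Opens) := ⟨⟨Classical.arbitrary _, trivial⟩⟩
  exact (ConcreteCategory.bijective_of_isIso (Scheme.ΓSpecIso C.L).hom).1.comp
    (injective_appLE C.g.toNormalization _ ⊤ _)

/-- `A → Γ(Y, V)`. -/
noncomputable def toY (V : C.Y.Opens) : C.A ⟶ Γ(C.Y, V) :=
  (Scheme.ΓSpecIso C.A).inv ≫ C.f.appLE ⊤ V le_top

theorem toY_kY (V : C.Y.Opens) (hV : (V : Set C.Y).Nonempty) : C.toY V ≫ C.kY V hV = C.ak := by
  rw [toY, kY, Category.assoc, Scheme.Hom.appLE_comp_appLE_assoc]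
  simp only [C.g0_f]
  rw [Iso.inv_comp_eq, ← Scheme.ΓSpecIso_naturality C.ak]
  congr 1

/-- Every element of `K` is a fraction of images of elements of `A`. -/
theorem exists_frac (x : C.K) : ∃ a b : C.A, b ≠ 0 ∧ C.ak.hom b * x = C.ak.hom a := by
  letI := C.ak.hom.toAlgebra
  haveI := C.fracK
  obtain ⟨⟨a, b⟩, h⟩ := IsLocalization.surj (nonZeroDivisors C.A) x
  exact ⟨a, b, nonZeroDivisors.coe_ne_zero b, by rw [mul_comm]; exact h⟩

theorem isFractionRing_kY (V : C.Y.Opens) (hV : (V : Set C.Y).Nonempty) :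
    letI := (C.kY V hV).hom.toAlgebra; IsFractionRing Γ(C.Y, V) C.K := by
  letI := (C.kY V hV).hom.toAlgebra
  letI := C.isFieldK.toField
  haveI : IsDomain Γ(C.Y, V) := (C.kY_injective V hV).isDomain
  haveI : FaithfulSMul Γ(C.Y, V) C.K := (faithfulSMul_iff_algebraMap_injective _ _).2 (C.kY_injective V hV)
  refine IsFractionRing.of_field _ _ fun x => ?_
  obtain ⟨a, b, hb, h⟩ := C.exists_frac x
  refine ⟨C.toY V a, C.toY V b, ?_⟩
  symm
  show (C.kY V hV).hom (C.toY V a) / (C.kY V hV).hom (C.toY V b) = x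
  rw [← CommRingCat.comp_apply, ← CommRingCat.comp_apply, toY_kY, div_eq_iff, mul_comm, ← h]
  exact (map_ne_zero_iff _ C.ak_injective).2 hb

theorem isIntegrallyClosed_section {V : C.Y.Opens} (hV : IsAffineOpen V) (hne : (V : Set C.Y).Nonempty) :
    IsIntegrallyClosed Γ(C.Y, V) := by
  haveI : Nonempty (V : C.Y.Opens) := hne.to_subtype
  exact H7Lim.isIntegrallyClosed_section C.normY hV

theorem isIntegralElem_lZ {V : C.Y.Opens} (hV : IsAffineOpen V) (hne : (V : Set C.Y).Nonempty)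
    (s : Γ(C.Z, C.π ⁻¹ᵁ V)) : (C.kY V hne ≫ C.kl).hom.IsIntegralElem ((C.lZ V hne).hom s) := by
  obtain ⟨p, hp, hp'⟩ := IsIntegralHom.isIntegral_app C.π V hV s
  refine ⟨p, hp, ?_⟩
  have := congrArg (C.lZ V hne).hom hp'
  rw [Polynomial.hom_eval₂, map_zero, ← CommRingCat.hom_comp, app_lZ] at this
  exact this

theorem exists_lZ {V : C.Y.Opens} (hV : IsAffineOpen V) (hne : (V : Set C.Y).Nonempty) (x : C.L)
    (hx : (C.kY V hne ≫ C.kl).hom.IsIntegralElem x) :
    ∃ s : Γ(C.Z, C.π ⁻¹ᵁ V), (C.lZ V hne).hom s = x := by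
  let e := (Scheme.ΓSpecIso C.L)
  have hW : C.g ⁻¹ᵁ V = ⊤ := top_le_iff.1 (C.top_le_g V hne)
  let w : Γ(Spec C.L, C.g ⁻¹ᵁ V) := (Spec C.L).presheaf.map (eqToHom hW).op (e.inv x)
  have hback : (Spec C.L).presheaf.map (eqToHom hW.symm).op w = e.inv x := by
    show ((Spec C.L).presheaf.map (eqToHom hW).op ≫ (Spec C.L).presheaf.map (eqToHom hW.symm).op) _ = _
    rw [← Functor.map_comp]
    simp
  have hinjw : Function.Injective ((Spec C.L).presheaf.map (eqToHom hW.symm).op ≫ e.hom) :=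
    (ConcreteCategory.bijective_of_isIso _).1
  have happ : C.g.app V ≫ (Spec C.L).presheaf.map (eqToHom hW.symm).op ≫ e.hom = C.kY V hne ≫ C.kl := by
    rw [← app_lZ, lZ, Scheme.Hom.app_eq_appLE, Scheme.Hom.app_eq_appLE,
      Scheme.Hom.appLE_comp_appLE_assoc, Scheme.Hom.appLE_map_assoc]
    simp only [Scheme.Hom.toNormalization_fromNormalization]
    rfl
  letI := (C.g.app V).hom.toAlgebra
  have hwint : _root_.IsIntegral Γ(C.Y, V) w := by
    obtain ⟨p, hp, hp'⟩ := hx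
    refine ⟨p, hp, hinjw ?_⟩
    rw [Polynomial.hom_eval₂, map_zero]
    show Polynomial.eval₂ (C.g.app V ≫ (Spec C.L).presheaf.map (eqToHom hW.symm).op ≫ e.hom).hom _ p = 0
    rw [happ]
    refine (congrArg (fun y => Polynomial.eval₂ (C.kY V hne ≫ C.kl).hom y p) ?_).trans hp'
    show e.hom ((Spec C.L).presheaf.map (eqToHom hW.symm).op w) = x
    rw [hback, Iso.inv_hom_id_apply]
  refine ⟨(C.g.normalizationObjIso hV).inv ⟨w, hwint⟩, ?_⟩
  have := congr($(C.g.normalizationObjIso_hom_val hV) ((C.g.normalizationObjIso hV).inv ⟨w, hwint⟩))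
  rw [CommRingCat.comp_apply, Iso.inv_hom_id_apply] at this
  change w = _ at this
  show e.hom (C.g.toNormalization.appLE _ ⊤ (C.top_le_toNorm V hne) _) = x
  rw [← Scheme.Hom.appLE_map C.g.toNormalization
    (show C.g ⁻¹ᵁ V ≤ C.g.toNormalization ⁻¹ᵁ (C.π ⁻¹ᵁ V) from (H7Lim.fromNormalization_preimage_preimage C.g V).le)
    (eqToHom hW.symm).op, CommRingCat.comp_apply]
  rw [← this, hback, Iso.inv_hom_id_apply]

end Groth.Agent.H05EGA4.TraceSplit.Ctx
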