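import Groth.Agent.H05EGA4.TraceSplit.Modification
import Groth.Agent.LeadFF.Gen
import Groth.Prelude.Def_ClSub2

/-!
# The trace `π_* O_Z → O_Y`

(helper5)
-/

set_option autoImplicit false
set_option linter.style.haveILetI false
set_option backward.isDefEq.respectTransparency false

universe u

open CategoryTheory CategoryTheory.Limits AlgebraicGeometry TopologicalSpace Opposite

namespace Groth.Agent.H05EGA4.TraceSplit.Ctx

variable (C : Ctx.{u})

/-- The degree `[L : K]`. -/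
noncomputable def deg : ℕ :=
  letI := C.kl.hom.toAlgebra
  Module.finrank C.K C.L

/-- The field trace. -/
noncomputable def trK : C.L →+ C.K :=
  letI := C.kl.hom.toAlgebra
  (Algebra.trace C.K C.L).toAddMonoidHom

theorem trK_mul (c : C.K) (x : C.L) : C.trK (C.kl.hom c * x) = c * C.trK x := by
  letI := C.kl.hom.toAlgebra
  show Algebra.trace C.K C.L (algebraMap C.K C.L c * x) = c * Algebra.trace C.K C.L x
  rw [← Algebra.smul_def, map_smul, smul_eq_mul]

theorem trK_kl (c : C.K) : C.trK (C.kl.hom c) = (C.deg : C.K) * c := by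
  letI := C.kl.hom.toAlgebra
  letI := C.isFieldK.toField
  show Algebra.trace C.K C.L (algebraMap C.K C.L c) = (Module.finrank C.K C.L : C.K) * c
  rw [Algebra.trace_algebraMap, nsmul_eq_mul]

theorem exists_trace_affine {V : C.Y.Opens} (hV : IsAffineOpen V) (hne : (V : Set C.Y).Nonempty)
    (s : Γ(C.Z, C.π ⁻¹ᵁ V)) :
    ∃ t : Γ(C.Y, V), (C.kY V hne).hom t = C.trK ((C.lZ V hne).hom s) := by
  letI := C.isFieldK.toField
  letI := C.isFieldL.toField
  letI := C.kl.hom.toAlgebra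
  letI := (C.kY V hne).hom.toAlgebra
  letI := (C.kY V hne ≫ C.kl).hom.toAlgebra
  haveI : IsScalarTower Γ(C.Y, V) C.K C.L := IsScalarTower.of_algebraMap_eq fun _ => rfl
  haveI : FiniteDimensional C.K C.L := RingHom.finite_algebraMap.1 C.finKL
  haveI := C.isFractionRing_kY V hne
  haveI := C.isIntegrallyClosed_section hV hne
  have hint : _root_.IsIntegral Γ(C.Y, V) ((C.lZ V hne).hom s) := C.isIntegralElem_lZ hV hne s
  exact IsIntegrallyClosed.isIntegral_iff.1 (Algebra.isIntegral_trace (L := C.K) hint)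

theorem exists_trace (V : C.Y.Opens) (s : Γ(C.Z, C.π ⁻¹ᵁ V)) :
    ∃ t : Γ(C.Y, V), ∀ hne : (V : Set C.Y).Nonempty, (C.kY V hne).hom t = C.trK ((C.lZ V hne).hom s) := by
  by_cases hne : (V : Set C.Y).Nonempty
  swap
  · exact ⟨0, fun h => absurd h hne⟩
  choose W hW hxW hWV' using fun x : V => exists_isAffineOpen_mem_and_subset (x := (x : C.Y)) (U := V) x.2
  have hWV : ∀ x, W x ≤ V := hWV' 
  have hWne : ∀ x, (W x : Set C.Y).Nonempty := fun x => ⟨_, hxW x⟩
  choose t ht using fun x => C.exists_trace_affine (hW x) (hWne x)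
    (C.Z.presheaf.map (homOfLE (C.π.preimage_mono (hWV x))).op s)
  have ht' : ∀ x, (C.kY (W x) (hWne x)).hom (t x) = C.trK ((C.lZ V hne).hom s) := fun x => by
    rw [ht x]
    exact congrArg C.trK (congr($(C.lZ_res (hWV x) (hWne x)) s))
  obtain ⟨T, hT, -⟩ := C.Y.sheaf.existsUnique_gluing' W V (fun x => homOfLE (hWV x))
    (fun z hz => Opens.mem_iSup.2 ⟨⟨z, hz⟩, hxW ⟨z, hz⟩⟩) t (fun x y => by
      have hne' : ((W x ⊓ W y : C.Y.Opens) : Set C.Y).Nonempty :=
        nonempty_preirreducible_inter (W x).2 (W y).2 (hWne x) (hWne y)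
      refine C.kY_injective _ hne' ?_
      show (C.kY _ hne').hom ((C.Y.presheaf.map (homOfLE inf_le_left).op) (t x)) =
        (C.kY _ hne').hom ((C.Y.presheaf.map (homOfLE inf_le_right).op) (t y))
      rw [← CommRingCat.comp_apply, ← CommRingCat.comp_apply, kY_res, kY_res]
      exact (ht' x).trans (ht' y).symm)
  refine ⟨T, fun h => ?_⟩
  obtain ⟨x, hx⟩ := hne
  have := congrArg (C.kY (W ⟨x, hx⟩) (hWne _)).hom (hT ⟨x, hx⟩)
  rw [ht'] at this
  refine Eq.trans ?_ this
  exact (congr($(C.kY_res (hWV ⟨x, hx⟩) (hWne ⟨x, hx⟩)) T)).symm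

theorem subsingleton_of_not_nonempty {V : C.Y.Opens} (h : ¬ (V : Set C.Y).Nonempty) :
    Subsingleton Γ(C.Y, V) := by
  rw [show V = ⊥ from Opens.ext (Set.not_nonempty_iff_eq_empty.1 h)]
  infer_instance

/-- The trace on sections. -/
noncomputable def trSec (V : C.Y.Opens) (s : Γ(C.Z, C.π ⁻¹ᵁ V)) : Γ(C.Y, V) := (C.exists_trace V s).choose

theorem kY_trSec (V : C.Y.Opens) (hne : (V : Set C.Y).Nonempty) (s : Γ(C.Z, C.π ⁻¹ᵁ V)) :
    (C.kY V hne).hom (C.trSec V s) = C.trK ((C.lZ V hne).hom s) :=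
  (C.exists_trace V s).choose_spec hne

theorem sec_ext {V : C.Y.Opens} {a b : Γ(C.Y, V)}
    (h : ∀ hne : (V : Set C.Y).Nonempty, (C.kY V hne).hom a = (C.kY V hne).hom b) : a = b := by
  by_cases hne : (V : Set C.Y).Nonempty
  · exact C.kY_injective V hne (h hne)
  · exact (C.subsingleton_of_not_nonempty hne).elim _ _

theorem trSec_add (V : C.Y.Opens) (s s' : Γ(C.Z, C.π ⁻¹ᵁ V)) :
    C.trSec V (s + s') = C.trSec V s + C.trSec V s' :=
  C.sec_ext fun hne => by rw [map_add, kY_trSec, kY_trSec, kY_trSec, map_add, map_add]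

theorem trSec_mul (V : C.Y.Opens) (r : Γ(C.Y, V)) (s : Γ(C.Z, C.π ⁻¹ᵁ V)) :
    C.trSec V (C.π.app V r * s) = r * C.trSec V s :=
  C.sec_ext fun hne => by
    rw [map_mul, kY_trSec, kY_trSec, map_mul, ← trK_mul]
    congr 2
    rw [← CommRingCat.comp_apply, app_lZ, CommRingCat.comp_apply]

theorem trSec_res {V W : C.Y.Opens} (h : W ≤ V) (s : Γ(C.Z, C.π ⁻¹ᵁ V)) :
    C.trSec W (C.Z.presheaf.map (homOfLE (C.π.preimage_mono h)).op s) =
      C.Y.presheaf.map (homOfLE h).op (C.trSec V s) :=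
  C.sec_ext fun hne => by
    rw [kY_trSec]
    refine (congrArg C.trK (congr($(C.lZ_res h hne) s))).trans ?_
    exact (C.kY_trSec V (hne.mono h) s).symm.trans (congr($(C.kY_res h hne) (C.trSec V s))).symm

theorem trSec_app (V : C.Y.Opens) (r : Γ(C.Y, V)) : C.trSec V (C.π.app V r) = (C.deg : Γ(C.Y, V)) * r :=
  C.sec_ext fun hne => by
    rw [kY_trSec, map_mul, map_natCast, ← trK_kl]
    congr 1
    rw [← CommRingCat.comp_apply, app_lZ, CommRingCat.comp_apply]

/-- The trace `π_* O_Z ⟶ O_Y`. -/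
noncomputable def τ : (Scheme.Modules.pushforward C.π).obj (Coh.structureModule C.Z) ⟶ Coh.structureModule C.Y :=
  ⟨PresheafOfModules.homMk
    { app := fun V => AddCommGrpCat.ofHom (AddMonoidHom.mk' (C.trSec V.unop) (C.trSec_add V.unop))
      naturality := fun V W i => by
        ext s
        exact C.trSec_res i.unop.le s }
    (fun V r s => C.trSec_mul V.unop r s)⟩

theorem τ_app (V : C.Y.Opens) (s : Γ(C.Z, C.π ⁻¹ᵁ V)) : C.τ.app V s = C.trSec V s := rfl

/-- `O_Y → π_* O_Z → O_Y` is multiplication by the degree. -/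
theorem unitToPush_τ : ClSub.unitToPush C.π ≫ C.τ =
    Formal.smulModΓ (Coh.structureModule C.Y) ((C.deg : Coh.Γtop C.Y)) := by
  refine LeadFF.hom_ext_sections _ _ fun V r => ?_
  refine (C.trSec_app V r).trans ?_
  exact congrArg (fun c : Γ(C.Y, V) => c * (show Γ(C.Y, V) from r))
    (map_natCast (Coh.resTop C.Y (op V)) C.deg).symm

end Groth.Agent.H05EGA4.TraceSplit.Ctx
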