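import Groth.Agent.H05EGA4.TraceSplit.Trace
import Groth.Agent.H10Coh.AffineLeray
import Groth.Agent.H10Coh.Affine
import Groth.Agent.H10Coh.QCohOps
import Groth.Agent.H16Derived.KFlat.FinLocFree
import Groth.Agent.H13Desc.Flat
import Groth.Agent.S0034
import Groth.Prelude.Def_Curv2

/-!
# `[L : K]` kills `H¹(Y, O_Y)` when all localizations of `B` are rational

(helper5)
-/

set_option autoImplicit false
set_option linter.style.haveILetI false
set_option backward.isDefEq.respectTransparency false

universe u

open CategoryTheory CategoryTheory.Limits AlgebraicGeometry TopologicalSpace Opposite TensorProduct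

namespace Groth.Agent.H05EGA4.TraceSplit

/-- A normal modification of a field or a discrete valuation ring is affine. -/
theorem isRationalSing_of_dim_le_one (R : Type u) [CommRing R] [IsDomain R] [IsLocalRing R]
    [IsNoetherianRing R] [IsIntegrallyClosed R] (hdim : ringKrullDim R ≤ 1) : Curv2.IsRationalSing R := by
  intro X f hf hint hnorm ⟨U, hUne, hU⟩
  suffices IsIso f by
    haveI : IsAffine X := IsAffine.of_isIso f
    haveI := H10Coh.isQuasicoherent_unit (X := X)
    exact H10Coh.subsingleton_HH_of_isAffine _ one_pos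
  haveI := hf; haveI := hint; haveI := hU
  haveI : ValuationRing R := by
    by_cases hF : IsField R
    · letI := hF.toField; infer_instance
    · haveI : Ring.KrullDimLE 1 R := Ring.krullDimLE_iff.2 (by exact_mod_cast hdim)
      haveI : Ring.DimensionLEOne R := ⟨fun {p} hne hp => hp.isMaximal_of_ne_bot hne⟩
      haveI : IsDedekindDomain R := {}
      exact ((IsDiscreteValuationRing.TFAE R hF).out 2 1 rfl rfl).1 inferInstance
  let η := genericPoint (Spec (CommRingCat.of R))
  have hη : η ∈ U := ((genericPoint_spec _).mem_open_set_iff U.2).2 (by simpa using hUne)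
  let a := Spec.map (CommRingCat.ofHom (algebraMap R (FractionRing R)))
  have hrange : Set.range a ⊆ Set.range U.ι := by
    rintro _ ⟨p, rfl⟩
    rw [Scheme.Opens.range_ι]
    suffices a p = η by rw [SetLike.mem_coe, this]; exact hη
    rw [show η = _ from AlgebraicGeometry.genericPoint_eq_bot_of_affine (CommRingCat.of R)]
    refine PrimeSpectrum.ext ?_
    show p.asIdeal.comap (algebraMap R (FractionRing R)) = ⊥
    rw [(Ideal.eq_bot_or_top p.asIdeal).resolve_right p.isPrime.ne_top]
    exact (RingHom.injective_iff_ker_eq_bot _).1 (IsFractionRing.injective R (FractionRing R))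
  let i₁ : Spec (CommRingCat.of (FractionRing R)) ⟶ X :=
    IsOpenImmersion.lift U.ι a hrange ≫ inv (f ∣_ U) ≫ (f ⁻¹ᵁ U).ι
  have hi₁ : i₁ ≫ f = a := by
    rw [Category.assoc, Category.assoc, ← morphismRestrict_ι, IsIso.inv_hom_id_assoc, IsOpenImmersion.lift_fac]
  have hv : ValuativeCriterion.Existence f := by
    have h : (@UniversallyClosed : MorphismProperty Scheme) f := inferInstanceAs (UniversallyClosed f)
    rw [UniversallyClosed.eq_valuativeCriterion] at h
    exact h.1
  obtain ⟨s, -, hs⟩ := (hv ⟨R, FractionRing R, i₁, 𝟙 _, ⟨by rw [hi₁, Category.comp_id]⟩⟩).exists_lift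
  haveI : IsClosedImmersion (s ≫ f) := by rw [hs]; infer_instance
  haveI : IsClosedImmersion s := IsClosedImmersion.of_comp s f
  have hfs : s (f (genericPoint X)) = genericPoint X := by
    obtain ⟨w, hw⟩ := (f ∣_ U).homeomorph.surjective ⟨η, hη⟩
    have hwη : f w.1 = η := (congr($(morphismRestrict_ι f U) w)).symm.trans (congrArg U.ι hw)
    have hgen : f (genericPoint X) = η :=
      ((((genericPoint_spec X).specializes trivial).map f.continuous).trans (specializes_of_eq hwη)).antisymm
        ((genericPoint_spec _).specializes trivial) |>.eq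
    have hηX : genericPoint X ∈ f ⁻¹ᵁ U := show f _ ∈ U from hgen.symm ▸ hη
    have hsη : f (s η) = η := congr($hs η)
    have := (f ∣_ U).homeomorph.injective (a₁ := ⟨s η, show f (s η) ∈ U from hsη.symm ▸ hη⟩)
      (a₂ := ⟨genericPoint X, hηX⟩) (U.ι.injective ?_)
    · rw [hgen]; exact congrArg Subtype.val this
    · refine (congr($(morphismRestrict_ι f U) _)).trans (Eq.trans ?_ (congr($(morphismRestrict_ι f U) _)).symm)
      exact hsη.trans hgen.symm
  haveI : Surjective s := ⟨Set.range_eq_univ.1 (Set.eq_univ_iff_forall.2 fun x =>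
    s.isClosedEmbedding.isClosed_range.closure_subset_iff.2 (Set.singleton_subset_iff.2 ⟨_, hfs⟩)
      (by rw [(genericPoint_spec X).def]; trivial))⟩
  haveI : IsIso s := isIso_of_isClosedImmersion_of_surjective s
  haveI : IsIso (s ≫ f) := by rw [hs]; infer_instance
  exact IsIso.of_isIso_comp_left s f

/-- A flat preimmersion induces isomorphisms of local rings. -/
theorem isIso_stalkMap {T W : Scheme.{u}} (a : T ⟶ W) [Flat a] [IsPreimmersion a] (t : T) :
    IsIso (a.stalkMap t) :=
  (ConcreteCategory.isIso_iff_bijective _).2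
    ⟨(H13Desc.faithfullyFlat_stalkMap a t).injective, a.stalkMap_surjective t⟩

namespace Ctx

variable (C : Ctx.{u})

theorem localized (hB : ∀ (n : Ideal C.B) [n.IsMaximal], Curv2.IsRationalSing (Localization.AtPrime n))
    (n : Ideal C.B) [n.IsMaximal] :
    letI : C.Z.Over (Spec (CommRingCat.of C.B)) := ⟨C.q⟩
    Subsingleton (TensorProduct C.B (Localization.AtPrime n) (Coh.HH C.Z (Coh.structureModule C.Z) 1)) := by
  let Bn := Localization.AtPrime n
  let ι : Spec (CommRingCat.of Bn) ⟶ Spec C.B := Spec.map (CommRingCat.ofHom (algebraMap C.B Bn))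
  haveI : IsPreimmersion ι := IsPreimmersion.of_isLocalization n.primeCompl
  haveI : Flat ι := (HasRingHomProperty.Spec_iff (P := @Flat)).2
    (RingHom.flat_algebraMap_iff.2 (IsLocalization.flat Bn n.primeCompl))
  let Zn := pullback C.q ι
  let a : Zn ⟶ C.Z := pullback.fst C.q ι
  let qn : Zn ⟶ Spec (CommRingCat.of Bn) := pullback.snd C.q ι
  haveI : IsPreimmersion a := inferInstance
  haveI : Flat a := inferInstance
  haveI : IsProper qn := MorphismProperty.pullback_snd _ _ inferInstance
  haveI hst : ∀ t, IsIso (a.stalkMap t) := fun t => isIso_stalkMap a t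
  have hdom : ∀ t : Zn, IsDomain (Zn.presheaf.stalk t) ∧ IsIntegrallyClosed (Zn.presheaf.stalk t) := fun t => by
    let e := (asIso (a.stalkMap t)).commRingCatIsoToRingEquiv
    haveI := C.normal_Z (a t)
    exact ⟨e.symm.toMulEquiv.isDomain _, IsIntegrallyClosed.of_equiv e⟩
  haveI : IsReduced Zn := by
    haveI : ∀ t, _root_.IsReduced (Zn.presheaf.stalk t) := fun t => by
      haveI := (hdom t).1; infer_instance
    exact isReduced_of_isReduced_stalk Zn
  -- the generic point
  have hηB : ι (genericPoint (Spec (CommRingCat.of Bn))) = genericPoint (Spec C.B) := by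
    rw [AlgebraicGeometry.genericPoint_eq_bot_of_affine, AlgebraicGeometry.genericPoint_eq_bot_of_affine]
    refine PrimeSpectrum.ext ?_
    show Ideal.comap (algebraMap C.B Bn) ⊥ = ⊥
    exact (RingHom.injective_iff_ker_eq_bot _).1
      (IsLocalization.injective Bn n.primeCompl_le_nonZeroDivisors)
  obtain ⟨η', hη', -⟩ := Scheme.Pullback.exists_preimage_pullback (f := C.q) (g := ι)
    (genericPoint C.Z) (genericPoint (Spec (CommRingCat.of Bn))) (by rw [hηB, C.q_generic])
  have hdense : IsGenericPoint η' (Set.univ : Set Zn) := by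
    refine Set.eq_univ_iff_forall.2 fun t => ?_
    rw [a.isEmbedding.isInducing.closure_eq_preimage_closure_image, Set.image_singleton]
    show a t ∈ closure {a η'}
    rw [hη', (genericPoint_spec C.Z).def]
    trivial
  haveI : IrreducibleSpace Zn := by
    rw [irreducibleSpace_def]
    have h : IsIrreducible (closure ({η'} : Set Zn)) := isIrreducible_singleton.closure
    rwa [hdense.def] at h
  haveI : IsIntegral Zn := isIntegral_of_irreducibleSpace_of_isReduced _
  -- birational
  obtain ⟨V, hVne, hV⟩ := C.modification_q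
  have hbir : ∃ V' : (Spec (CommRingCat.of Bn)).Opens, (V' : Set (Spec (CommRingCat.of Bn))).Nonempty ∧
      IsIso (qn ∣_ V') := by
    refine ⟨ι ⁻¹ᵁ V, ⟨genericPoint (Spec (CommRingCat.of Bn)), ?_⟩, ?_⟩
    · show ι (genericPoint _) ∈ V
      rw [hηB]
      exact ((genericPoint_spec _).mem_open_set_iff V.2).2 (by simpa using hVne)
    · haveI := hV
      have hW : (qn ⁻¹ᵁ (ι ⁻¹ᵁ V)) ≤ a ⁻¹ᵁ (C.q ⁻¹ᵁ V) := by
        rw [← Scheme.Hom.comp_preimage, ← Scheme.Hom.comp_preimage, pullback.condition]
      have hsq : IsPullback (qn ∣_ (ι ⁻¹ᵁ V)) (a.resLE (C.q ⁻¹ᵁ V) _ hW) (ι ∣_ V) (C.q ∣_ V) := by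
        refine .of_bot ?_ ?_ (isPullback_morphismRestrict C.q V)
        · simpa using (isPullback_morphismRestrict qn (ι ⁻¹ᵁ V)).paste_vert
            (IsPullback.of_hasPullback C.q ι).flip
        · simp [← cancel_mono V.ι, a, qn, pullback.condition]
      exact MorphismProperty.of_isPullback (P := MorphismProperty.isomorphisms Scheme)
        hsq.flip ‹IsIso (C.q ∣_ V)›
  have hsub := hB n Zn qn inferInstance inferInstance hdom hbir
  -- flat base change
  letI : C.Z.Over (Spec (CommRingCat.of C.B)) := ⟨C.q⟩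
  letI : Zn.Over (Spec (CommRingCat.of Bn)) := ⟨qn⟩
  haveI : Module.Flat C.B Bn := IsLocalization.flat Bn n.primeCompl
  haveI : CompactSpace C.Z := QuasiCompact.compactSpace_of_compactSpace C.q
  haveI : QuasiSeparatedSpace C.Z := quasiSeparatedSpace_of_quasiSeparated C.q
  haveI : Coh.IsQCoh (Coh.structureModule C.Z) := H10Coh.isQuasicoherent_unit
  obtain ⟨e⟩ := Groth.Agent.S0034.result C.B Bn C.Z Zn a (IsPullback.of_hasPullback C.q ι)
    (Coh.structureModule C.Z) 1
  let i := H16Derived.KFlat.Stalk.structurePullbackIso a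
  haveI : Subsingleton (Coh.HH Zn ((Scheme.Modules.pullback a).obj (Coh.structureModule C.Z)) 1) := by
    refine Function.Injective.subsingleton (f := LeadFF.Hm i.hom 1) fun x y hxy => ?_
    have := congrArg (LeadFF.Hm i.inv 1) hxy
    rwa [← LeadFF.Hm_comp, ← LeadFF.Hm_comp, i.hom_inv_id, LeadFF.Hm_id, LeadFF.Hm_id] at this
  exact e.toEquiv.subsingleton

theorem subsingleton_Z (hB : ∀ (n : Ideal C.B) [n.IsMaximal], Curv2.IsRationalSing (Localization.AtPrime n)) :
    Subsingleton (Coh.HH C.Z (Coh.structureModule C.Z) 1) := by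
  letI : C.Z.Over (Spec (CommRingCat.of C.B)) := ⟨C.q⟩
  refine subsingleton_of_forall_eq 0 fun x => ?_
  refine Module.eq_of_localization_maximal (R := C.B)
    (fun n _ => LocalizedModule n.primeCompl (Coh.HH C.Z (Coh.structureModule C.Z) 1))
    (fun n _ => LocalizedModule.mkLinearMap n.primeCompl _) x 0 fun n _ => ?_
  haveI := C.localized hB n
  haveI : Subsingleton (LocalizedModule n.primeCompl (Coh.HH C.Z (Coh.structureModule C.Z) 1)) :=
    (IsLocalizedModule.isBaseChange n.primeCompl (Localization.AtPrime n)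
      (LocalizedModule.mkLinearMap n.primeCompl (Coh.HH C.Z (Coh.structureModule C.Z) 1))).equiv.symm.toEquiv.subsingleton
  exact Subsingleton.elim _ _

/-- The degree kills `H¹(Y, O_Y)`. -/
theorem deg_smul_eq_zero
    (hB : ∀ (n : Ideal C.B) [n.IsMaximal], Curv2.IsRationalSing (Localization.AtPrime n))
    (x : Coh.HH C.Y (Coh.structureModule C.Y) 1) : ((C.deg : Coh.Γtop C.Y)) • x = 0 := by
  haveI := C.subsingleton_Z hB
  haveI : (Coh.structureModule C.Z).IsQuasicoherent := H10Coh.isQuasicoherent_unit
  haveI : Subsingleton (Coh.HH C.Y ((Scheme.Modules.pushforward C.π).obj (Coh.structureModule C.Z)) 1) :=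
    ((H10Coh.HHEquiv _ 1).trans ((H10Coh.affineLerayEquiv C.π (Coh.structureModule C.Z) 1 ⊤).trans
      (H10Coh.HHEquiv (Coh.structureModule C.Z) 1).symm)).toEquiv.subsingleton
  show LeadFF.Hm (Formal.smulModΓ (Coh.structureModule C.Y) ((C.deg : Coh.Γtop C.Y))) 1 x = 0
  rw [← unitToPush_τ, LeadFF.Hm_comp, Subsingleton.elim (LeadFF.Hm (ClSub.unitToPush C.π) 1 x) 0]
  exact map_zero _

end Ctx

end Groth.Agent.H05EGA4.TraceSplit
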